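import Groth.Agent.S5193
import Groth.Agent.CompInt.Conormal
import Groth.Agent.CompInt.Cohom
import Groth.Agent.PicPn.Main
import Groth.Agent.Intersect.Hyper
import Groth.Agent.LefRel.Pd
import Groth.Agent.TorCI.CIMap
import Groth.Agent.FlatFunLib.DomainFibreDim

/-!
The Picard group of a complete intersection of dimension at least three in projective space.
-/

set_option autoImplicit false
set_option maxHeartbeats 1000000
set_option linter.style.haveILetI false
set_option backward.isDefEq.respectTransparency false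
set_option backward.isDefEq.respectTransparency.types false
universe u

open CategoryTheory CategoryTheory.Limits AlgebraicGeometry TopologicalSpace Opposite IsLocalRing
open RingTheory.Sequence
open Groth.Agent.Nakai (cl_tensor cl_pow cl_one iso_of_cl)

noncomputable section

namespace Groth.Agent.CIPicGlobal

attribute [local instance] Groth.Agent.Nakai.clMonoid

/-- The fibre of a scheme over a field has the local rings of the scheme. -/
theorem nonempty_fiberStalk_field {k : Type u} [Field k] {X : Scheme.{u}} (f : X ⟶ Spec (CommRingCat.of k)) (x : X) :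
    Nonempty (X.presheaf.stalk x ≃+* CInt.fiberStalk f x) := by
  obtain ⟨e⟩ := CMFlat.nonempty_fiberStalk_equiv f x
  have h0 : (maximalIdeal ((Spec (CommRingCat.of k)).presheaf.stalk (f x))).map (f.stalkMap x).hom = ⊥ := by
    rw [FlatFunLib.maximalIdeal_stalk_eq_bot (R := k) (f x)
      ((Ideal.eq_bot_or_top _).resolve_right (f x : PrimeSpectrum k).isPrime.ne_top), Ideal.map_bot]
  exact ⟨((Ideal.quotEquivOfEq h0).trans (RingEquiv.quotientBot _)).symm.trans e⟩

theorem isClosed_singleton_of_asFiber {k : Type u} [Field k] {X : Scheme.{u}} (f : X ⟶ Spec (CommRingCat.of k))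
    {x : X} (h : IsClosed ({f.asFiber x} : Set ↥(f.fiber (f x)))) : IsClosed ({x} : Set X) :=
  closure_subset_iff_isClosed.1 fun y hy => by
    haveI : Subsingleton (PrimeSpectrum k) := inferInstance
    exact (LefRel.isClosed_asFiber_iff f x).1 h y (specializes_iff_mem_closure.2 hy)
      (Subsingleton.elim (α := PrimeSpectrum k) _ _)

open CompInt

variable {k : Type u} [Field k] {n t : ℕ} {a : Fin t → ℕ} {G : ∀ j, LefPen.Form n k (a j)}

/-- Depth and parafactoriality at the closed points. -/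
theorem stalk_facts (h : IsCI G) (h4 : t + 4 ≤ n) (z : (LefPen.ciIdeal G).subscheme)
    (hz : IsClosed ({z} : Set (LefPen.ciIdeal G).subscheme)) :
    (4 : ℕ∞) ≤ LocCoh.depth ((LefPen.ciIdeal G).subscheme.presheaf.stalk z)
        ((LefPen.ciIdeal G).subscheme.presheaf.stalk z) ∧
      ParaF.IsParafactorialLocalRing ((LefPen.ciIdeal G).subscheme.presheaf.stalk z) := by
  obtain ⟨l, hl⟩ := PicPn.exists_mem_ch (k := k) (n := n) ((LefPen.ciIdeal G).subschemeι z)
  haveI := SerrePn.isRegularLocalRing_stalk k n ((LefPen.ciIdeal G).subschemeι z)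
  haveI : IsNoetherianRing ((LefPen.ciIdeal G).subscheme.presheaf.stalk z) :=
    isNoetherianRing_of_ringEquiv _ (stalkEquiv G z hl)
  let π := ((LefPen.ciIdeal G).subschemeι.stalkMap z).hom
  have hπ : Function.Surjective π := (LefPen.ciIdeal G).subschemeι.stalkMap_surjective z
  have hker : RingHom.ker π = Ideal.ofList (List.ofFn (germs G _ hl)) := by
    rw [ker_stalk G z hl, Ideal.ofList]
    congr 1
    ext w
    simp [List.mem_ofFn, Set.mem_range]
  have hw := h.isWeaklyRegular z hz hl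
  have hreg : IsRegular _ (List.ofFn (germs G _ hl)) :=
    (IsLocalRing.isRegular_iff_isWeaklyRegular_of_subset_maximalIdeal fun x hx =>
      le_maximalIdeal (RingHom.ker_ne_top π) (hker.ge (Ideal.subset_span hx))).2 hw
  have hdim : (4 : WithBot ℕ∞) ≤ ringKrullDim ((LefPen.ciIdeal G).subscheme.presheaf.stalk z) := by
    have h1 := le_dim_stalk G z hz
    obtain ⟨e, he⟩ := GrpAct.exists_nat_ringKrullDim ((LefPen.ciIdeal G).subscheme.presheaf.stalk z)
    rw [he] at h1 ⊢
    have h2 : n ≤ e + t := by exact_mod_cast h1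
    exact_mod_cast (show 4 ≤ e by omega)
  exact ⟨FormAlg.four_le_depth π hπ _ hreg hker hdim,
    FormAlg.isParafactorial_ci _ (TorCI.isCI_of_regular_quot TorCI.isCI_of_regularLocal π hπ _ hw hker) hdim⟩

/-- The Picard group is generated freely by the hyperplane class. -/
def Pic1 {X : Scheme.{u}} (f : X ⟶ P k n) : Prop :=
  (∀ L : X.Modules, PicF.IsInvertible L →
      ∃ e : ℤ, Nonempty (L ≅ (Scheme.Modules.pullback f).obj (Twist.twistProjSpace n k e))) ∧
    ∀ e : ℤ, Nonempty ((Scheme.Modules.pullback f).obj (Twist.twistProjSpace n k e) ≅ Coh.structureModule X) → e = 0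

theorem pullback_cancel {X Y : Scheme.{u}} (g : X ⟶ Y) [IsIso g] (M : X.Modules) :
    Nonempty ((Scheme.Modules.pullback g).obj ((Scheme.Modules.pullback (inv g)).obj M) ≅ M) :=
  ⟨(Scheme.Modules.pullbackComp g (inv g)).app M ≪≫ (Scheme.Modules.pullbackCongr (IsIso.hom_inv_id g)).app M ≪≫
    (Scheme.Modules.pullbackId _).app M⟩

theorem pullback_cancel' {X Y : Scheme.{u}} (g : X ⟶ Y) [IsIso g] (M : Y.Modules) :
    Nonempty ((Scheme.Modules.pullback (inv g)).obj ((Scheme.Modules.pullback g).obj M) ≅ M) :=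
  ⟨(Scheme.Modules.pullbackComp (inv g) g).app M ≪≫ (Scheme.Modules.pullbackCongr (IsIso.inv_hom_id g)).app M ≪≫
    (Scheme.Modules.pullbackId _).app M⟩

theorem pic1_iso {X Y : Scheme.{u}} (e : X ⟶ Y) [IsIso e] {f : Y ⟶ P k n} {g : X ⟶ P k n} (he : e ≫ f = g)
    (h : Pic1 f) : Pic1 g := by
  subst he
  refine ⟨fun L hL => ?_, fun d ⟨θ⟩ => h.2 d ?_⟩
  · obtain ⟨d, ⟨θ⟩⟩ := h.1 _ (PicLoc.isInvertible_pullback (inv e) hL)
    obtain ⟨c⟩ := pullback_cancel e L
    exact ⟨d, ⟨c.symm ≪≫ (Scheme.Modules.pullback e).mapIso θ ≪≫ (Scheme.Modules.pullbackComp e f).app _⟩⟩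
  · obtain ⟨c⟩ := pullback_cancel' e ((Scheme.Modules.pullback f).obj (Twist.twistProjSpace n k d))
    exact ⟨c.symm ≪≫ (Scheme.Modules.pullback (inv e)).mapIso ((Scheme.Modules.pullbackComp e f).app _ ≪≫ θ) ≪≫
      DerPerf.pullUnitIso (inv e)⟩

theorem pic1_of_comparison {X Y : Scheme.{u}} (g : X ⟶ Y) {f : Y ⟶ P k n} (hI : Formal2.PicPullbackInjective g)
    (hS : Formal2.PicPullbackSurjective g) (hf : ∀ e : ℤ, PicF.IsInvertible ((Scheme.Modules.pullback f).obj (Twist.twistProjSpace n k e)))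
    (h : Pic1 f) : Pic1 (g ≫ f) := by
  refine ⟨fun L hL => ?_, fun d ⟨θ⟩ => h.2 d (hI _ (hf d) ⟨(Scheme.Modules.pullbackComp g f).app _ ≪≫ θ⟩)⟩
  obtain ⟨M, hM, ⟨μ⟩⟩ := hS L hL
  obtain ⟨d, ⟨θ⟩⟩ := h.1 M hM
  exact ⟨d, ⟨μ.symm ≪≫ (Scheme.Modules.pullback g).mapIso θ ≪≫ (Scheme.Modules.pullbackComp g f).app _⟩⟩

theorem isInvertible_twist (i : ℤ) : PicF.IsInvertible (Twist.twistProjSpace n k i) :=
  GrT.isInvertible_twist_of_gens (PlaneCurve.hasFracGens _)

theorem cl_twist_add (a b : ℤ) :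
    PicF.cl (Twist.twistProjSpace n k a) * PicF.cl (Twist.twistProjSpace n k b) =
      PicF.cl (Twist.twistProjSpace n k (a + b)) := by
  obtain ⟨t⟩ := GrT.nonempty_twist_tensor_iso (CohB1.polyGrading n k) (a := a) (b := b) (c := a + b)
    (PlaneCurve.hasFracGens _) rfl
  rw [← cl_tensor]
  exact (PicGrp.cl_eq_cl_iff _ _).2 ⟨TMul.commIso _ _ ≪≫ t⟩

theorem cl_twist_zero : PicF.cl (Twist.twistProjSpace n k 0) = 1 := by
  obtain ⟨t₀⟩ := GrT.nonempty_twist_zero_iso (𝒜 := CohB1.polyGrading n k)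
  rw [← cl_one]
  exact (PicGrp.cl_eq_cl_iff _ _).2 ⟨t₀⟩

/-- Powers of a pulled back twist. -/
theorem cl_pow_pullback {X : Scheme.{u}} (f : X ⟶ P k n) {M : X.Modules} (d : ℤ)
    (h : Nonempty (M ≅ (Scheme.Modules.pullback f).obj (Twist.twistProjSpace n k d))) : ∀ m : ℕ,
    PicF.cl (CohB1.tensorPow M m) = PicF.cl ((Scheme.Modules.pullback f).obj (Twist.twistProjSpace n k ((m : ℤ) * d)))
  | 0 => by
    obtain ⟨t₀⟩ := GrT.nonempty_twist_zero_iso (𝒜 := CohB1.polyGrading n k)
    rw [cl_pow, pow_zero, ← cl_one, Nat.cast_zero, zero_mul]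
    exact (PicGrp.cl_eq_cl_iff _ _).2 ⟨(DerPerf.pullUnitIso f).symm ≪≫ (Scheme.Modules.pullback f).mapIso t₀.symm⟩
  | m + 1 => by
    obtain ⟨u⟩ := GrT.nonempty_twist_tensor_iso (CohB1.polyGrading n k) (a := (m : ℤ) * d) (b := d)
      (c := ((m + 1 : ℕ) : ℤ) * d) (PlaneCurve.hasFracGens _) (by push_cast; ring)
    rw [cl_pow, pow_succ, ← cl_pow, cl_pow_pullback f d h m, (PicGrp.cl_eq_cl_iff _ _).2 h, ← cl_tensor]
    exact (PicGrp.cl_eq_cl_iff _ _).2 ⟨Groth.Agent.KFlat.pullTensorIso f _ _ ≪≫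
      (Scheme.Modules.pullback f).mapIso (TMul.commIso _ _ ≪≫ u)⟩

theorem pic1_zero {a : Fin 0 → ℕ} (G : ∀ j, LefPen.Form n k (a j)) (hn : 1 ≤ n) :
    Pic1 (LefPen.ciIdeal G).subschemeι := by
  haveI : IsIso (LefPen.ciIdeal G).subschemeι := IsClosedImmersion.isIso_iff_ker_eq_bot.2 (by
    rw [Scheme.IdealSheafData.ker_subschemeι, LefPen.ciIdeal, iSup_of_empty])
  refine pic1_iso (LefPen.ciIdeal G).subschemeι (Category.comp_id _) ⟨fun L hL => ?_, fun e ⟨θ⟩ => ?_⟩
  · obtain ⟨d, ⟨θ⟩⟩ := PicPn.exists_iso_any L hL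
    exact ⟨d, ⟨θ ≪≫ ((Scheme.Modules.pullbackId _).app _).symm⟩⟩
  · obtain ⟨t₀⟩ := GrT.nonempty_twist_zero_iso (𝒜 := CohB1.polyGrading n k)
    exact (PicPn.existsUnique_iso hn (Coh.structureModule (P k n)) (ParaFLib.isInvertible_of_iso t₀ (isInvertible_twist 0))).unique
      ⟨(((Scheme.Modules.pullbackId _).app _).symm ≪≫ θ).symm⟩ ⟨t₀.symm⟩

theorem pic1_succ {r : ℕ} {a : Fin (r + 1) → ℕ} {G : ∀ j, LefPen.Form n k (a j)} (h : IsCI G) (hr : r + 4 ≤ n)
    (hY : Pic1 (LefPen.ciIdeal (pre G)).subschemeι) : Pic1 (LefPen.ciIdeal G).subschemeι := by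
  set IY := LefPen.ciIdeal (pre G) with hIY
  set J := (LefPen.hypIdeal (G (Fin.last r))).comap IY.subschemeι with hJ
  have hkerJ : (J.subschemeι ≫ IY.subschemeι).ker = LefPen.ciIdeal G := by
    rw [← Scheme.IdealSheafData.map_ker, Scheme.IdealSheafData.ker_subschemeι, hJ,
      map_comap_eq_sup, Scheme.IdealSheafData.ker_subschemeι, ciIdeal_succ, sup_comm]
  let e : (LefPen.ciIdeal G).subscheme ⟶ J.subscheme := IsClosedImmersion.lift (J.subschemeι ≫ IY.subschemeι)
    (LefPen.ciIdeal G).subschemeι (by rw [hkerJ, Scheme.IdealSheafData.ker_subschemeι])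
  have he : e ≫ J.subschemeι ≫ IY.subschemeι = (LefPen.ciIdeal G).subschemeι := IsClosedImmersion.lift_fac _ _ _
  haveI : IsClosedImmersion (e ≫ J.subschemeι ≫ IY.subschemeι) := by rw [he]; infer_instance
  haveI : IsClosedImmersion e := IsClosedImmersion.of_comp e (J.subschemeι ≫ IY.subschemeι)
  haveI : IsIso e := IsClosedImmersion.isIso_of_ker_eq (LefPen.ciIdeal G).subschemeι
    (J.subschemeι ≫ IY.subschemeι) e he (by rw [hkerJ, Scheme.IdealSheafData.ker_subschemeι])
  refine pic1_iso e he ?_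
  haveI := ProjMor.isProper_toSpec n k
  letI : IY.subscheme.Over (Spec (CommRingCat.of k)) := ⟨IY.subschemeι ≫ CohB1.ProjSpace.toSpec n k⟩
  haveI : IsProper (IY.subscheme ↘ Spec (CommRingCat.of k)) :=
    inferInstanceAs (IsProper (IY.subschemeι ≫ CohB1.ProjSpace.toSpec n k))
  haveI : Subsingleton (Spec (CommRingCat.of k) : Scheme.{u}) := inferInstanceAs (Subsingleton (PrimeSpectrum k))
  let d := a (Fin.last r)
  let L := (Scheme.Modules.pullback IY.subschemeι).obj (Twist.twistProjSpace n k (d : ℤ))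
  obtain ⟨i₀⟩ := h.nonempty_idealMod_iso
  obtain ⟨t⟩ := GrT.nonempty_twist_tensor_iso (CohB1.polyGrading n k) (a := (d : ℤ)) (b := -(d : ℤ)) (c := 0)
    (PlaneCurve.hasFracGens _) (by ring)
  obtain ⟨t₀⟩ := GrT.nonempty_twist_zero_iso (𝒜 := CohB1.polyGrading n k)
  have hL : ClSub.IsInverseOf L (ClSub.idealMod J) := ⟨PicGrp.tensorModIso (Iso.refl L) i₀ ≪≫
    Groth.Agent.KFlat.pullTensorIso IY.subschemeι _ _ ≪≫ (Scheme.Modules.pullback IY.subschemeι).mapIso (TMul.commIso _ _ ≪≫ t ≪≫ t₀) ≪≫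
    DerPerf.pullUnitIso IY.subschemeι⟩
  have hamp : CohB1.IsAmple L := by
    haveI : CompactSpace (P k n) := (Intersect.isAmple_twistProj_one n k).2.1
    haveI : CompactSpace (Proj (CohB1.polyGrading n k)) := ‹_›
    refine TMul.isAmple_pullback_of_isAffineHom IY.subschemeι (GrT.isAmple_twist_of_cover (𝒜 := CohB1.polyGrading n k)
      (m := d) (h.pos _) fun x => ?_)
    obtain ⟨g, hg, hgx⟩ := ProjMor.exists_notMem (ProjMor.genDegOne_projSpace n k) x
    refine ⟨g ^ d, ?_, fun hc => hgx (x.isPrime.mem_of_pow_mem d hc)⟩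
    simpa using SetLike.pow_mem_graded d hg
  have hYi : ∀ i : ℤ, PicF.IsInvertible ((Scheme.Modules.pullback IY.subschemeι).obj (Twist.twistProjSpace n k i)) :=
    fun i => PicLoc.isInvertible_pullback _ (isInvertible_twist i)
  haveI : IsLocallyNoetherian IY.subscheme :=
    LocallyOfFiniteType.isLocallyNoetherian (IY.subscheme ↘ Spec (CommRingCat.of k))
  have hfacts : ∀ x : IY.subscheme,
      IsClosed ({(IY.subscheme ↘ Spec (CommRingCat.of k)).asFiber x} :
        Set ↥((IY.subscheme ↘ Spec (CommRingCat.of k)).fiber ((IY.subscheme ↘ Spec (CommRingCat.of k)) x))) →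
      (3 : ℕ∞) ≤ LocCoh.depth (CInt.fiberStalk (IY.subscheme ↘ Spec (CommRingCat.of k)) x)
          (CInt.fiberStalk (IY.subscheme ↘ Spec (CommRingCat.of k)) x) ∧
        ParaF.IsParafactorialLocalRing (CInt.fiberStalk (IY.subscheme ↘ Spec (CommRingCat.of k)) x) := fun x hx => by
    obtain ⟨ε⟩ := nonempty_fiberStalk_field (IY.subscheme ↘ Spec (CommRingCat.of k)) x
    haveI : IsNoetherianRing (CInt.fiberStalk (IY.subscheme ↘ Spec (CommRingCat.of k)) x) :=
      isNoetherianRing_of_ringEquiv _ ε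
    obtain ⟨hd, hp⟩ := stalk_facts h.pre hr x (isClosed_singleton_of_asFiber _ hx)
    exact ⟨le_trans (by norm_num) (hd.trans_eq (Purity.depth_eq_of_ringEquiv ε).symm), FormAlg.isParafactorial_congr ε hp⟩
  have hgood := CompInt.good h
  have hH : ∀ m : ℕ, 0 < m → ∀ i : ℕ, (i = 1 ∨ i = 2) → Subsingleton (Coh.HH IY.subscheme
      ((DCoh.tensorBi.obj (CohB1.tensorPow (ClSub.idealMod J) m)).obj (ClSub.quotMod J)) i) := by
    intro m _ i hi
    let c : ℤ := (m : ℤ) * (-(d : ℤ))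
    let M := (Scheme.Modules.pullback IY.subschemeι).obj (Twist.twistProjSpace n k c)
    have hcl : PicF.cl (CohB1.tensorPow (ClSub.idealMod J) m) = PicF.cl M :=
      cl_pow_pullback IY.subschemeι (-(d : ℤ)) ⟨i₀⟩ m
    obtain ⟨θ⟩ := iso_of_cl (A := CohB1.tensorPow (ClSub.idealMod J) m) (B := M) hcl
    obtain ⟨eQ₀⟩ := SerrePn.nonempty_pushTwist J.subschemeι (Coh.structureModule J.subscheme) (hYi c)
    let eQ : CohB1.tensorMod (ClSub.quotMod J) M ≅
        (Scheme.Modules.pushforward J.subschemeι).obj ((Scheme.Modules.pullback J.subschemeι).obj M) :=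
      eQ₀ ≪≫ (Scheme.Modules.pushforward J.subschemeι).mapIso (TMul.leftUnitIso _)
    let α : CohB1.tensorMod (CohB1.tensorPow (ClSub.idealMod J) m) (ClSub.quotMod J) ≅
        (Scheme.Modules.pushforward J.subschemeι).obj ((Scheme.Modules.pullback J.subschemeι).obj M) :=
      PicGrp.tensorModIso θ (Iso.refl _) ≪≫ TMul.commIso _ _ ≪≫ eQ
    show Subsingleton (Coh.HH IY.subscheme (CohB1.tensorMod (CohB1.tensorPow (ClSub.idealMod J) m) (ClSub.quotMod J)) i)
    refine CohQC.hh_subsingleton_of_iso α.symm i ?_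
    have hM' : Coh.IsQCoh ((Scheme.Modules.pullback J.subschemeι).obj M) :=
      TMul.isQCoh_of_isInvertible (PicLoc.isInvertible_pullback _ (hYi c))
    haveI := hM'
    refine (CompInt.hh_push_iff J.subschemeι (IY.subschemeι ≫ CohB1.ProjSpace.toSpec n k) _ i).1 ?_
    refine CompInt.hh_pullback_of_ker_eq_bot (inv e) (inv e).ker_eq_bot_of_isIso
      ((LefPen.ciIdeal G).subschemeι ≫ CohB1.ProjSpace.toSpec n k)
      ((Scheme.Modules.pullback (LefPen.ciIdeal G).subschemeι).obj (Twist.twistProjSpace n k c))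
      (TMul.isQCoh_of_isInvertible (PicLoc.isInvertible_pullback _ (isInvertible_twist c))) i
      ((hgood c).1 i (by omega) (by omega)) |> CohQC.hh_subsingleton_of_iso ?_ i
    exact (Scheme.Modules.pullbackComp (inv e) _).app _ ≪≫
      (Scheme.Modules.pullbackCongr ((IsIso.inv_comp_eq e).2 he.symm)).app _ ≪≫
      ((Scheme.Modules.pullbackComp J.subschemeι IY.subschemeι).app _).symm
  have hcmp := S5193.result k IY.subscheme J L hL hamp (fun x hx => (hfacts x hx).1) (fun x hx _ => (hfacts x hx).2) 0 hH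
  rw [zero_add, pow_one] at hcmp
  exact pic1_of_comparison J.subschemeι hcmp.1 hcmp.2 hYi hY

theorem pic1 : ∀ {r : ℕ} {a : Fin r → ℕ} {G : ∀ j, LefPen.Form n k (a j)}, IsCI G → r + 3 ≤ n →
    Pic1 (LefPen.ciIdeal G).subschemeι := by
  intro r
  induction r with
  | zero => exact fun {a G} _ hn => pic1_zero G (by omega)
  | succ r ih => exact fun {a G} h hn => pic1_succ h (by omega) (ih h.pre (by omega))

end Groth.Agent.CIPicGlobal
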